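import Groth.Agent.Lib.SpinNode7.Power

/-!
# The matrix `α(p, q)` on `R[[x, y]]/(xy - pq)`
-/

set_option autoImplicit false
universe u

open Matrix

namespace GrothLib.SpinNode7

open SpinCurv

variable {R : Type u} [CommRing R] {π : R}

theorem algebraMap_eq_ofX (r : R) : algebraMap R (NodeRing R π) r = NodeRing.ofX R π (PowerSeries.C r) := by
  show _ = Ideal.Quotient.mk _ _
  rw [PowerSeries.toMvPowerSeries_C]
  rfl

theorem algebraMap_eq_ofY (r : R) : algebraMap R (NodeRing R π) r = NodeRing.ofY R π (PowerSeries.C r) := by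
  show _ = Ideal.Quotient.mk _ _
  rw [PowerSeries.toMvPowerSeries_C]
  rfl

theorem ofX_mul (f g : PowerSeries R) : NodeRing.ofX R π (f * g) = NodeRing.ofX R π f * NodeRing.ofX R π g := by
  simp [NodeRing.ofX]

theorem ofY_mul (f g : PowerSeries R) : NodeRing.ofY R π (f * g) = NodeRing.ofY R π f * NodeRing.ofY R π g := by
  simp [NodeRing.ofY]

theorem ofX_add (f g : PowerSeries R) : NodeRing.ofX R π (f + g) = NodeRing.ofX R π f + NodeRing.ofX R π g := by
  simp [NodeRing.ofX]

theorem ofY_add (f g : PowerSeries R) : NodeRing.ofY R π (f + g) = NodeRing.ofY R π f + NodeRing.ofY R π g := by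
  simp [NodeRing.ofY]

theorem ofX_X : NodeRing.ofX R π PowerSeries.X = NodeRing.x R π := by simp [NodeRing.ofX]

theorem ofY_X : NodeRing.ofY R π PowerSeries.X = NodeRing.y R π := by simp [NodeRing.ofY]

theorem exists_ofX_eq (f : PowerSeries R) :
    ∃ f' : PowerSeries R, NodeRing.ofX R π f =
      algebraMap R _ (PowerSeries.constantCoeff f) + NodeRing.x R π * NodeRing.ofX R π f' := by
  refine ⟨PowerSeries.mk fun n => PowerSeries.coeff (n + 1) f, ?_⟩
  rw [algebraMap_eq_ofX, ← ofX_X, ← ofX_mul, ← ofX_add, add_comm]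
  exact congrArg _ (PowerSeries.eq_X_mul_shift_add_const f)

theorem exists_ofY_eq (f : PowerSeries R) :
    ∃ f' : PowerSeries R, NodeRing.ofY R π f =
      algebraMap R _ (PowerSeries.constantCoeff f) + NodeRing.y R π * NodeRing.ofY R π f' := by
  refine ⟨PowerSeries.mk fun n => PowerSeries.coeff (n + 1) f, ?_⟩
  rw [algebraMap_eq_ofY, ← ofY_X, ← ofY_mul, ← ofY_add, add_comm]
  exact congrArg _ (PowerSeries.eq_X_mul_shift_add_const f)

theorem x_mul_y : NodeRing.x R π * NodeRing.y R π = algebraMap R (NodeRing R π) π := by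
  show Ideal.Quotient.mk _ _ * Ideal.Quotient.mk _ _ = Ideal.Quotient.mk _ (MvPowerSeries.C π)
  rw [← map_mul, Ideal.Quotient.mk_eq_mk_iff_sub_mem]
  exact Ideal.mem_span_singleton_self _

variable {I : Ideal R} [IsAdicComplete I R] {p q : R}

/-- The two columns. -/
noncomputable def cols (p q : R) : Set (Fin 2 → NodeRing R (p * q)) :=
  {![algebraMap R (NodeRing R (p * q)) p, -NodeRing.x R (p * q)],
    ![NodeRing.y R (p * q), -algebraMap R (NodeRing R (p * q)) q]}

theorem mulVec_alpha (a b : NodeRing R (p * q)) : nodeAlpha R p q *ᵥ ![a, b] =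
    ![NodeRing.x R (p * q) * a + algebraMap R _ p * b, algebraMap R _ q * a + NodeRing.y R (p * q) * b] := by
  ext i
  fin_cases i <;> simp [nodeAlpha, Matrix.mulVec, dotProduct, Fin.sum_univ_two]

theorem span_le_ker : Submodule.span (NodeRing R (p * q)) (cols p q) ≤ LinearMap.ker (mulVecLin (nodeAlpha R p q)) := by
  rw [Submodule.span_le]
  have h : NodeRing.x R (p * q) * NodeRing.y R (p * q) = algebraMap R _ p * algebraMap R _ q :=
    x_mul_y.trans (map_mul _ _ _)
  rintro v (rfl | rfl) <;> rw [SetLike.mem_coe, LinearMap.mem_ker, mulVecLin_apply, mulVec_alpha] <;>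
    ext i <;> fin_cases i <;> simp
  all_goals first
    | linear_combination h
    | linear_combination -h
    | ring

include I in
theorem exists_reduce (hπ : p * q ∈ I) (v : Fin 2 → NodeRing R (p * q)) :
    ∃ f g : PowerSeries R, v - ![NodeRing.ofX R (p * q) f, NodeRing.ofY R (p * q) g] ∈
      Submodule.span (NodeRing R (p * q)) (cols p q) := by
  obtain ⟨f, g, hfg⟩ := exists_normalForm R hπ (v 0)
  obtain ⟨f₁, g₁, hfg₁⟩ := exists_normalForm R hπ (v 1)
  obtain ⟨f₂, hf₂⟩ := exists_ofX_eq (π := p * q) f₁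
  refine ⟨f + PowerSeries.C p * f₂, PowerSeries.C q * g + PowerSeries.X * g₁ + PowerSeries.C (PowerSeries.constantCoeff f₁), ?_⟩
  rw [ofX_add, ofX_mul, ofY_add, ofY_add, ofY_mul, ofY_mul, ofY_X, ← algebraMap_eq_ofX, ← algebraMap_eq_ofY, ← algebraMap_eq_ofY]
  refine Submodule.mem_span_pair.2 ⟨-NodeRing.ofX R (p * q) f₂, NodeRing.ofY R (p * q) g, ?_⟩
  ext i
  fin_cases i <;> simp [hfg, hfg₁, hf₂] <;> ring

include I in
theorem injective_xy (hπ : p * q ∈ I) (f g : PowerSeries R)
    (h : nodeAlpha R p q *ᵥ ![NodeRing.ofX R (p * q) f, NodeRing.ofY R (p * q) g] = 0) : f = 0 ∧ g = 0 := by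
  rw [mulVec_alpha] at h
  have h0 := congrFun h 0
  have h1 := congrFun h 1
  simp only [Matrix.cons_val_zero, Matrix.cons_val_one, Pi.zero_apply] at h0 h1
  obtain ⟨g', hg'⟩ := exists_ofY_eq (π := p * q) g
  have e0 : NodeRing.ofX R (p * q) (PowerSeries.X * f + PowerSeries.C (p * PowerSeries.constantCoeff g)) +
      NodeRing.y R (p * q) * NodeRing.ofY R (p * q) (PowerSeries.C p * g') = 0 := by
    rw [ofX_add, ofX_mul, ofX_X, ← algebraMap_eq_ofX, ofY_mul, ← algebraMap_eq_ofY,
      map_mul (algebraMap R (NodeRing R (p * q))) p (PowerSeries.constantCoeff g)]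
    rw [hg'] at h0
    linear_combination h0
  obtain ⟨hf, -⟩ := normalForm_eq_zero R hπ _ _ e0
  have hf0 : f = 0 := by
    ext n
    have := congrArg (PowerSeries.coeff (n + 1)) hf
    simpa [PowerSeries.coeff_succ_X_mul] using this
  subst hf0
  refine ⟨rfl, (normalForm_eq_zero R hπ 0 g ?_).2⟩
  simpa [NodeRing.ofX] using h1

end GrothLib.SpinNode7
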