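import Groth.Prelude.Def_W4c5spincurvestfNode
import Mathlib

/-!
# Normal form in `R[x, y]/(xy - π)`
-/

set_option autoImplicit false
universe u

open scoped LaurentPolynomial

namespace GrothLib.SpinNode7

open SpinCurv

variable {R : Type u} [CommRing R] (π : R)

local notation "X'" => PolyNodeRing.x R π
local notation "Y'" => PolyNodeRing.y R π

theorem px_mul_py : X' * Y' = algebraMap R (PolyNodeRing R π) π := by
  show Ideal.Quotient.mk _ _ * Ideal.Quotient.mk _ _ = Ideal.Quotient.mk _ (MvPolynomial.C π)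
  rw [← map_mul, Ideal.Quotient.mk_eq_mk_iff_sub_mem]
  exact Ideal.mem_span_singleton_self _

theorem psmul_def (r : R) (z : PolyNodeRing R π) : r • z = algebraMap R (PolyNodeRing R π) r * z :=
  Algebra.smul_def r z

/-- `x ^ n` for `n ≥ 0`, `y ^ (-n)` for `n ≤ 0`. -/
noncomputable def e (n : ℤ) : PolyNodeRing R π := X' ^ n.toNat * Y' ^ (-n).toNat

theorem e_ofNat (n : ℕ) : e π (n : ℤ) = X' ^ n := by simp [e]
theorem e_neg (n : ℕ) : e π (-(n : ℤ)) = Y' ^ n := by simp [e]
@[simp] theorem e_zero : e π 0 = 1 := by simp [e]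

theorem e_mul (a b : ℕ) : X' ^ a * Y' ^ b = π ^ min a b • e π ((a : ℤ) - b) := by
  rw [e, psmul_def, map_pow, ← px_mul_py, mul_pow]
  rcases le_total b a with h | h
  · obtain ⟨c, rfl⟩ := Nat.le.dest h
    rw [show (((b + c : ℕ) : ℤ) - b).toNat = c by omega, show (-(((b + c : ℕ) : ℤ) - b)).toNat = 0 by omega,
      min_eq_right h]
    ring
  · obtain ⟨c, rfl⟩ := Nat.le.dest h
    rw [show ((a : ℤ) - (a + c : ℕ)).toNat = 0 by omega, show (-((a : ℤ) - (a + c : ℕ))).toNat = c by omega,
      min_eq_left h]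
    ring

theorem x_mul_e (n : ℤ) : X' * e π n = π ^ (if 0 ≤ n then 0 else 1) • e π (n + 1) := by
  rw [e, ← mul_assoc, ← pow_succ', e_mul]
  congr 2 <;> (try split_ifs) <;> omega

theorem y_mul_e (n : ℤ) : Y' * e π n = π ^ (if n ≤ 0 then 0 else 1) • e π (n - 1) := by
  rw [e, mul_left_comm, ← pow_succ', e_mul]
  congr 2 <;> (try split_ifs) <;> omega

/-- Coefficients on monomials. -/
noncomputable def pre : MvPolynomial (Fin 2) R →ₗ[R] (ℤ →₀ R) :=
  (MvPolynomial.basisMonomials (Fin 2) R).constr R fun d => Finsupp.single ((d 0 : ℤ) - d 1) (π ^ min (d 0) (d 1))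

theorem pre_monomial (d : Fin 2 →₀ ℕ) (r : R) :
    pre π (MvPolynomial.monomial d r) = Finsupp.single ((d 0 : ℤ) - d 1) (r * π ^ min (d 0) (d 1)) := by
  rw [show MvPolynomial.monomial d r = r • (MvPolynomial.basisMonomials (Fin 2) R d) by simp [MvPolynomial.smul_monomial],
    map_smul, pre, Module.Basis.constr_basis, Finsupp.smul_single, smul_eq_mul]

theorem mk_monomial (d : Fin 2 →₀ ℕ) (r : R) :
    (Ideal.Quotient.mk _ (MvPolynomial.monomial d r) : PolyNodeRing R π) = (r * π ^ min (d 0) (d 1)) • e π ((d 0 : ℤ) - d 1) := by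
  rw [mul_smul, ← e_mul, MvPolynomial.monomial_eq, Finsupp.prod_fintype _ _ (fun _ => pow_zero _), Fin.prod_univ_two,
    map_mul, map_mul, map_pow, map_pow, psmul_def]
  rfl

theorem pre_rel (P : MvPolynomial (Fin 2) R) :
    pre π (P * (MvPolynomial.X 0 * MvPolynomial.X 1 - MvPolynomial.C π)) = 0 := by
  induction P using MvPolynomial.induction_on' with
  | monomial d r =>
    rw [mul_sub, map_sub, MvPolynomial.X, MvPolynomial.X, MvPolynomial.monomial_mul, MvPolynomial.monomial_mul,
      mul_comm _ (MvPolynomial.C π), MvPolynomial.C_mul_monomial, pre_monomial, pre_monomial]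
    simp only [Finsupp.add_apply, Finsupp.single_eq_same, ne_eq, zero_ne_one, one_ne_zero, not_false_eq_true,
      Finsupp.single_eq_of_ne, add_zero, zero_add]
    rw [show ((d 0 + 1 : ℕ) : ℤ) - ((d 1 + 1 : ℕ) : ℤ) = (d 0 : ℤ) - d 1 by push_cast; ring,
      Nat.add_min_add_right, sub_eq_zero]
    congr 1
    ring
  | add P Q hP hQ => rw [add_mul, map_add, hP, hQ, add_zero]

/-- The coefficients of the normal form. -/
noncomputable def coeffs : PolyNodeRing R π →ₗ[R] (ℤ →₀ R) :=
  Submodule.liftQ ((Ideal.span {(MvPolynomial.X 0 * MvPolynomial.X 1 - MvPolynomial.C π : MvPolynomial (Fin 2) R)}).restrictScalars R)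
    (pre π) (fun x hx => by
      obtain ⟨P, rfl⟩ := Ideal.mem_span_singleton'.1 hx
      exact pre_rel π P) ∘ₗ (Submodule.Quotient.restrictScalarsEquiv R _).symm.toLinearMap

theorem coeffs_mk (P : MvPolynomial (Fin 2) R) : coeffs π (Ideal.Quotient.mk _ P) = pre π P := rfl

/-- The normal form. -/
noncomputable def nf : (ℤ →₀ R) →ₗ[R] PolyNodeRing R π := Finsupp.linearCombination R (e π)

@[simp] theorem nf_single (n : ℤ) (r : R) : nf π (Finsupp.single n r) = r • e π n := by simp [nf]

theorem nf_bijective : Function.Bijective (nf π) := by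
  have h1 : ∀ c, coeffs π (nf π c) = c := by
    intro c
    induction c using Finsupp.induction_linear with
    | zero => simp
    | add a b ha hb => rw [map_add, map_add, ha, hb]
    | single n r =>
      rw [nf_single, map_smul, e, PolyNodeRing.x, PolyNodeRing.y, ← map_pow, ← map_pow, ← map_mul, coeffs_mk,
        MvPolynomial.X_pow_eq_monomial, MvPolynomial.X_pow_eq_monomial, MvPolynomial.monomial_mul, pre_monomial]
      simp [Int.toNat_sub_toNat_neg, show min n.toNat (-n).toNat = 0 by omega]
  refine ⟨Function.LeftInverse.injective h1, fun z => ?_⟩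
  obtain ⟨P, rfl⟩ := Ideal.Quotient.mk_surjective z
  induction P using MvPolynomial.induction_on' with
  | monomial d r => exact ⟨Finsupp.single _ _, (nf_single π _ _).trans (mk_monomial π d r).symm⟩
  | add P Q hP hQ =>
    obtain ⟨a, ha⟩ := hP
    obtain ⟨b, hb⟩ := hQ
    exact ⟨a + b, by rw [map_add, ha, hb, map_add]⟩

variable (g : PolyNodeRing R π →ₐ[R] R[T;T⁻¹]) (s : ℤ) (hs : s = 1 ∨ s = -1)
  (hgx : g (PolyNodeRing.x R π) = LaurentPolynomial.T s) (hgy : g (PolyNodeRing.y R π) = LaurentPolynomial.C π * LaurentPolynomial.T (-s))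

include hgx hgy in
theorem g_e (n : ℤ) : g (e π n) = LaurentPolynomial.C (π ^ (-n).toNat) * LaurentPolynomial.T (s * n) := by
  rw [e, map_mul, map_pow, map_pow, hgx, hgy, mul_pow, LaurentPolynomial.T_pow, LaurentPolynomial.T_pow, map_pow,
    mul_left_comm, ← LaurentPolynomial.T_add]
  congr 2
  have := Int.toNat_sub_toNat_neg n
  linear_combination s * this

include hs hgx hgy in
theorem coeff_g_nf (c : ℤ →₀ R) (m : ℤ) : (g (nf π c)).coeff m = π ^ (-(s * m)).toNat * c (s * m) := by
  induction c using Finsupp.induction_linear with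
  | zero => simp
  | add a b ha hb => simp [map_add, ha, hb, mul_add]
  | single n r =>
    rw [nf_single, map_smul, g_e π g s hgx hgy, ← LaurentPolynomial.single_eq_C_mul_T, AddMonoidAlgebra.smul_single, AddMonoidAlgebra.coeff_single,
      Finsupp.single_apply, Finsupp.single_apply]
    have : (s * n = m) ↔ (n = s * m) := by rcases hs with rfl | rfl <;> constructor <;> intro h <;> omega
    by_cases h : s * n = m
    · rw [if_pos h, if_pos (this.1 h), ← this.1 h, smul_eq_mul, mul_comm]
    · rw [if_neg h, if_neg (mt this.2 h), mul_zero]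

end GrothLib.SpinNode7
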