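import Groth.Prelude.Def_W4c5spincurvestfNode
import Mathlib

/-!
# Normal form in `R[[x, y]]/(xy - π)` for `π` topologically nilpotent
-/

set_option autoImplicit false
universe u

open MvPowerSeries

namespace GrothLib.SpinNode7

variable {R : Type u} [CommRing R]

/-- The exponent `(i, j)`. -/
noncomputable def d2 (i j : ℕ) : Fin 2 →₀ ℕ := Finsupp.single 0 i + Finsupp.single 1 j

@[simp] theorem d2_zero (i j : ℕ) : d2 i j 0 = i := by simp [d2]
@[simp] theorem d2_one (i j : ℕ) : d2 i j 1 = j := by simp [d2]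

theorem eq_d2 (d : Fin 2 →₀ ℕ) : d = d2 (d 0) (d 1) := by
  ext k; fin_cases k <;> simp

theorem ext2 {F G : MvPowerSeries (Fin 2) R} (h : ∀ i j, coeff (d2 i j) F = coeff (d2 i j) G) : F = G :=
  MvPowerSeries.ext fun d => by rw [eq_d2 d]; exact h _ _

theorem coeff_ofX (f : PowerSeries R) (i j : ℕ) :
    coeff (d2 i j) (PowerSeries.toMvPowerSeries (σ := Fin 2) 0 f) = if j = 0 then PowerSeries.coeff i f else 0 := by
  rw [PowerSeries.toMvPowerSeries_apply]
  split_ifs with h
  · subst h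
    have e : d2 i 0 = Finsupp.embDomain (Function.Embedding.punit (0 : Fin 2)) (Finsupp.single () i) := by
      rw [Finsupp.embDomain_single]; simp [d2]; rfl
    rw [e]
    exact MvPowerSeries.coeff_embDomain_rename (Function.Embedding.punit (0 : Fin 2)) f _
  · refine MvPowerSeries.coeff_rename_eq_zero _ _ ?_
    rintro ⟨y, hy⟩
    have := DFunLike.congr_fun hy 1
    rw [Finsupp.mapDomain_of_notMem_range] at this
    · simp at this; exact h this.symm
    · simp

theorem coeff_ofY (f : PowerSeries R) (i j : ℕ) :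
    coeff (d2 i j) (PowerSeries.toMvPowerSeries (σ := Fin 2) 1 f) = if i = 0 then PowerSeries.coeff j f else 0 := by
  rw [PowerSeries.toMvPowerSeries_apply]
  split_ifs with h
  · subst h
    have e : d2 0 j = Finsupp.embDomain (Function.Embedding.punit (1 : Fin 2)) (Finsupp.single () j) := by
      rw [Finsupp.embDomain_single]; simp [d2]; rfl
    rw [e]
    exact MvPowerSeries.coeff_embDomain_rename (Function.Embedding.punit (1 : Fin 2)) f _
  · refine MvPowerSeries.coeff_rename_eq_zero _ _ ?_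
    rintro ⟨y, hy⟩
    have := DFunLike.congr_fun hy 0
    rw [Finsupp.mapDomain_of_notMem_range] at this
    · simp at this; exact h this.symm
    · simp

theorem coeff_rel_mul (π : R) (G : MvPowerSeries (Fin 2) R) (i j : ℕ) :
    coeff (d2 i j) ((X 0 * X 1 - C π) * G) =
      (if 1 ≤ i ∧ 1 ≤ j then coeff (d2 (i - 1) (j - 1)) G else 0) - π * coeff (d2 i j) G := by
  classical
  rw [sub_mul, map_sub, coeff_C_mul]
  congr 1
  have e : (X 0 * X 1 : MvPowerSeries (Fin 2) R) = monomial (d2 1 1) 1 := by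
    rw [X, X, monomial_mul_monomial, one_mul]; rfl
  rw [e, coeff_monomial_mul, one_mul]
  have hle : d2 1 1 ≤ d2 i j ↔ 1 ≤ i ∧ 1 ≤ j := by
    constructor
    · intro h; exact ⟨by simpa using h 0, by simpa using h 1⟩
    · intro h k; fin_cases k <;> simp [h.1, h.2]
  have hsub : d2 i j - d2 1 1 = d2 (i - 1) (j - 1) := by
    ext k; fin_cases k <;> simp
  simp only [hle, hsub]

variable {I : Ideal R}

/-- The sum `∑ π^k a_k` of a geometric series. -/
theorem exists_geomSum [IsAdicComplete I R] {π : R} (hπ : π ∈ I) :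
    ∃ S : (ℕ → R) → R, ∀ a, S a = a 0 + π * S fun k => a (k + 1) := by
  have hcauchy : ∀ (a : ℕ → R) {m n : ℕ}, m ≤ n →
      (∑ k ∈ Finset.range m, π ^ k * a k) ≡ (∑ k ∈ Finset.range n, π ^ k * a k) [SMOD (I ^ m • ⊤ : Submodule R R)] := by
    intro a m n hmn
    rw [smul_eq_mul, Ideal.mul_top, SModEq.sub_mem, ← neg_mem_iff, neg_sub, ← Finset.sum_Ico_eq_sub _ hmn]
    exact Ideal.sum_mem _ fun k hk => Ideal.mul_mem_right _ _
      (Ideal.pow_le_pow_right (Finset.mem_Ico.1 hk).1 (Ideal.pow_mem_pow hπ k))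
  choose S hS using fun a => IsPrecomplete.prec (IsAdicComplete.toIsPrecomplete (I := I) (M := R)) (hcauchy a)
  refine ⟨S, fun a => sub_eq_zero.1 (IsHausdorff.haus (IsAdicComplete.toIsHausdorff (I := I) (M := R)) _ fun n => ?_)⟩
  have h1 := hS a (n + 1)
  have h2 := hS (fun k => a (k + 1)) n
  rw [smul_eq_mul, Ideal.mul_top, SModEq.sub_mem] at h1 h2 ⊢
  rw [Finset.sum_range_succ'] at h1
  have e : S a - (a 0 + π * S fun k => a (k + 1)) - 0 =
      -((∑ k ∈ Finset.range n, π ^ (k + 1) * a (k + 1)) + π ^ 0 * a 0 - S a) +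
        π * ((∑ k ∈ Finset.range n, π ^ k * a (k + 1)) - S fun k => a (k + 1)) := by
    rw [mul_sub, Finset.mul_sum]
    have : ∀ k, π * (π ^ k * a (k + 1)) = π ^ (k + 1) * a (k + 1) := fun k => by ring
    simp only [this]
    ring
  rw [e]
  exact Ideal.add_mem _ (neg_mem (Ideal.pow_le_pow_right (Nat.le_succ n) h1)) (Ideal.mul_mem_left _ _ h2)

variable (R) in
/-- Every element of `R[[x, y]]/(xy - π)` is `f(x) + y g(y)`. -/
theorem exists_normalForm [IsAdicComplete I R] {π : R} (hπ : π ∈ I) (z : SpinCurv.NodeRing R π) :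
    ∃ f g : PowerSeries R, z = SpinCurv.NodeRing.ofX R π f + SpinCurv.NodeRing.y R π * SpinCurv.NodeRing.ofY R π g := by
  obtain ⟨F, rfl⟩ := Ideal.Quotient.mk_surjective z
  obtain ⟨S, hS⟩ := exists_geomSum (I := I) hπ
  let G : MvPowerSeries (Fin 2) R := fun d => S fun k => coeff (d2 (d 0 + 1 + k) (d 1 + 1 + k)) F
  have hG : ∀ i j, coeff (d2 i j) G = S fun k => coeff (d2 (i + 1 + k) (j + 1 + k)) F := fun i j => by
    show G (d2 i j) = _
    simp [G]
  let f : PowerSeries R := PowerSeries.mk fun i => coeff (d2 i 0) (F - (X 0 * X 1 - C π) * G)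
  let g : PowerSeries R := PowerSeries.mk fun j => coeff (d2 0 (j + 1)) (F - (X 0 * X 1 - C π) * G)
  have hy : PowerSeries.toMvPowerSeries (σ := Fin 2) 1 (PowerSeries.X * g) =
      X 1 * PowerSeries.toMvPowerSeries (σ := Fin 2) 1 g := by
    rw [map_mul, PowerSeries.toMvPowerSeries_X]
  refine ⟨f, g, ?_⟩
  show Ideal.Quotient.mk _ F = Ideal.Quotient.mk _ _ + Ideal.Quotient.mk _ _ * Ideal.Quotient.mk _ _
  rw [← map_mul, ← map_add, ← hy, Ideal.Quotient.mk_eq_mk_iff_sub_mem, Ideal.mem_span_singleton']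
  refine ⟨G, ext2 fun i j => ?_⟩
  rw [mul_comm G, map_sub, map_add, coeff_ofX, coeff_ofY]
  rcases Nat.eq_zero_or_pos j with hj | hj
  · subst hj
    simp [f, coeff_rel_mul]
  rcases Nat.eq_zero_or_pos i with hi | hi
  · subst hi
    obtain ⟨j, rfl⟩ := Nat.exists_eq_succ_of_ne_zero hj.ne'
    simp [g, coeff_rel_mul]
  rw [if_neg hj.ne', if_neg hi.ne', coeff_rel_mul, if_pos ⟨hi, hj⟩, hG, hG, hS]
  obtain ⟨i, rfl⟩ := Nat.exists_eq_succ_of_ne_zero hi.ne'
  obtain ⟨j, rfl⟩ := Nat.exists_eq_succ_of_ne_zero hj.ne'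
  simp [Nat.succ_eq_add_one, add_assoc, add_comm, add_left_comm]

variable (R) in
/-- The normal form is unique. -/
theorem normalForm_eq_zero [IsHausdorff I R] {π : R} (hπ : π ∈ I) (f g : PowerSeries R)
    (h : SpinCurv.NodeRing.ofX R π f + SpinCurv.NodeRing.y R π * SpinCurv.NodeRing.ofY R π g = 0) :
    f = 0 ∧ g = 0 := by
  have hy : X 1 * PowerSeries.toMvPowerSeries (σ := Fin 2) 1 g =
      PowerSeries.toMvPowerSeries (σ := Fin 2) 1 (PowerSeries.X * g) := by
    rw [map_mul, PowerSeries.toMvPowerSeries_X]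
  change Ideal.Quotient.mk _ _ + Ideal.Quotient.mk _ _ * Ideal.Quotient.mk _ _ = 0 at h
  rw [← map_mul, ← map_add, hy, Ideal.Quotient.eq_zero_iff_mem, Ideal.mem_span_singleton'] at h
  obtain ⟨G, hG⟩ := h
  rw [mul_comm] at hG
  have key : ∀ a b, coeff (d2 a b) G = π * coeff (d2 (a + 1) (b + 1)) G := fun a b => by
    have := congrArg (coeff (d2 (a + 1) (b + 1))) hG
    rw [coeff_rel_mul, map_add, coeff_ofX, coeff_ofY, if_pos ⟨by omega, by omega⟩, if_neg (by omega),
      if_neg (by omega), add_zero, sub_eq_zero] at this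
    simpa using this
  have hpow : ∀ n a b, coeff (d2 a b) G ∈ I ^ n := by
    intro n
    induction n with
    | zero => simp
    | succ n ih => intro a b; rw [key, pow_succ']; exact Ideal.mul_mem_mul hπ (ih _ _)
  have hG0 : G = 0 := ext2 fun a b => by
    rw [map_zero]
    exact IsHausdorff.haus' (I := I) _ fun n => by simpa [SModEq.zero] using hpow n a b
  rw [hG0, mul_zero] at hG
  constructor
  · ext i
    have := congrArg (coeff (d2 i 0)) hG
    rw [map_zero, map_add, coeff_ofX, coeff_ofY, if_pos rfl] at this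
    rcases Nat.eq_zero_or_pos i with hi | hi
    · subst hi; simpa using this.symm
    · rw [if_neg hi.ne', add_zero] at this; simpa using this.symm
  · ext j
    have := congrArg (coeff (d2 0 (j + 1))) hG
    rw [map_zero, map_add, coeff_ofX, coeff_ofY, if_pos rfl, if_neg (by omega), zero_add,
      PowerSeries.coeff_succ_X_mul] at this
    simpa using this.symm

end GrothLib.SpinNode7
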