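import Groth.Agent.Lib.SpinNode7.Twist

/-!
# Presentation of the sections of the twisting sheaves
-/

set_option autoImplicit false
universe u

open scoped LaurentPolynomial

namespace GrothLib.SpinNode7

open SpinCurv

variable {R : Type u} [CommRing R]

theorem y_mul_nf_eq_zero (π : R) {a : ℤ →₀ R} (h : PolyNodeRing.y R π * nf π a = 0) {m : ℤ} (hm : m ≤ 0) : a m = 0 := by
  let w : (ℤ →₀ R) →ₗ[R] (ℤ →₀ R) :=
    Finsupp.linearCombination R fun k => Finsupp.single (k - 1) (π ^ (if k ≤ 0 then 0 else 1))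
  have h1 : ∀ c, PolyNodeRing.y R π * nf π c = nf π (w c) := by
    intro c
    induction c using Finsupp.induction_linear with
    | zero => simp
    | add x y hx hy => rw [map_add, map_add, map_add, mul_add, hx, hy]
    | single k r =>
      simp only [w, nf_single, Finsupp.linearCombination_single, map_smul, mul_smul_comm, y_mul_e]
  have h2 : ∀ c : ℤ →₀ R, w c (m - 1) = c m := by
    intro c
    induction c using Finsupp.induction_linear with
    | zero => simp
    | add x y hx hy => simp [map_add, hx, hy]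
    | single k r =>
      simp only [w, Finsupp.linearCombination_single, Finsupp.smul_single, smul_eq_mul, Finsupp.single_apply]
      by_cases hk : k = m
      · subst hk; simp [hm]
      · rw [if_neg (by omega), if_neg hk]
  rw [← h2 a, (nf_bijective π).1 ((h1 a).symm.trans (h.trans (map_zero _).symm))]
  rfl

variable {p q : R}

/-- The relations among the `n + 1` sections. -/
noncomputable def relSet (p q : R) (n : ℕ) : Set (Fin (n + 1) → PolyNodeRing R (p * q)) :=
  (Set.range (fun i : Fin n =>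
      (Pi.single (Fin.castSucc i) (algebraMap R (PolyNodeRing R (p * q)) p) -
        Pi.single (Fin.succ i) (PolyNodeRing.x R (p * q)) : Fin (n + 1) → PolyNodeRing R (p * q))) ∪
   Set.range (fun i : Fin n =>
      (Pi.single (Fin.castSucc i) (PolyNodeRing.y R (p * q)) -
        Pi.single (Fin.succ i) (algebraMap R (PolyNodeRing R (p * q)) q) : Fin (n + 1) → PolyNodeRing R (p * q))))

/-- Lifts of the basic sections. -/
noncomputable def lift (p q : R) (n : ℕ) (m : ℤ) : Fin (n + 1) → PolyNodeRing R (p * q) :=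
  if m < 0 then Pi.single (Fin.last n) (PolyNodeRing.y R (p * q) ^ (-m).toNat)
  else if (n : ℤ) < m then Pi.single 0 (PolyNodeRing.x R (p * q) ^ (m - n).toNat)
  else Pi.single ⟨n - m.toNat, by omega⟩ 1

theorem lift_nat (n : ℕ) (i : Fin (n + 1)) : lift p q n ((n - (i : ℕ) : ℕ) : ℤ) = Pi.single i 1 := by
  rw [lift, if_neg (by omega), if_neg (by omega)]
  congr
  simp only [Int.toNat_natCast]
  omega

theorem lift_zero_pow (n j : ℕ) : lift p q n ((n : ℤ) + j) = Pi.single 0 (PolyNodeRing.x R (p * q) ^ j) := by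
  rcases Nat.eq_zero_or_pos j with rfl | hj
  · have := lift_nat (p := p) (q := q) n 0
    simpa using this
  · rw [lift, if_neg (by omega), if_pos (by omega)]
    congr
    omega

theorem lift_last_pow (n j : ℕ) : lift p q n (-(j : ℤ)) = Pi.single (Fin.last n) (PolyNodeRing.y R (p * q) ^ j) := by
  rcases Nat.eq_zero_or_pos j with rfl | hj
  · have := lift_nat (p := p) (q := q) n (Fin.last n)
    simpa using this
  · rw [lift, if_pos (by omega)]
    congr
    omega

theorem smul_single_mul {ι A : Type*} [DecidableEq ι] [CommRing A] (a z : A) (i : ι) :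
    a • (Pi.single i z : ι → A) = Pi.single i (a * z) := by rw [← Pi.single_smul, smul_eq_mul]

theorem single_algebraMap_mul {ι A : Type*} [DecidableEq ι] [CommRing A] [Algebra R A] (r : R) (z : A) (i : ι) :
    (Pi.single i (algebraMap R A r * z) : ι → A) = r • Pi.single i z := by
  rw [← Algebra.smul_def, Pi.single_smul]

theorem single_algebraMap {ι A : Type*} [DecidableEq ι] [CommRing A] [Algebra R A] (r : R) (i : ι) :
    (Pi.single i (algebraMap R A r) : ι → A) = r • Pi.single i 1 := by
  rw [← single_algebraMap_mul, mul_one]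

set_option maxHeartbeats 1000000 in
/-- Modulo the relations, the lifts span. -/
theorem exists_lift (n : ℕ) (F : Fin (n + 1) → PolyNodeRing R (p * q)) :
    ∃ c, F - Finsupp.linearCombination R (lift p q n) c ∈ Submodule.span (PolyNodeRing R (p * q)) (relSet p q n) := by
  classical
  let M := Submodule.span (PolyNodeRing R (p * q)) (relSet p q n)
  let S : Submodule R (Fin (n + 1) → PolyNodeRing R (p * q)) :=
    M.restrictScalars R ⊔ LinearMap.range (Finsupp.linearCombination R (lift p q n))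
  have hl : ∀ m, lift p q n m ∈ S := fun m =>
    Submodule.mem_sup_right ⟨Finsupp.single m 1, by simp⟩
  have hM : ∀ v ∈ M, v ∈ S := fun v hv => Submodule.mem_sup_left hv
  have hclosed : ∀ (a : PolyNodeRing R (p * q)), (∀ m, a • lift p q n m ∈ S) → ∀ v ∈ S, a • v ∈ S := by
    intro a ha v hv
    obtain ⟨v₁, hv₁, v₂, ⟨c, rfl⟩, rfl⟩ := Submodule.mem_sup.1 hv
    rw [smul_add]
    refine add_mem (hM _ (M.smul_mem a hv₁)) ?_
    clear hv hv₁
    induction c using Finsupp.induction_linear with
    | zero => simp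
    | add x y hx hy => rw [map_add, smul_add]; exact add_mem hx hy
    | single k r => rw [Finsupp.linearCombination_single, smul_comm]; exact S.smul_mem r (ha k)
  have hxy : PolyNodeRing.x R (p * q) * PolyNodeRing.y R (p * q) = algebraMap R _ (p * q) := px_mul_py _
  have hX : ∀ m, PolyNodeRing.x R (p * q) • lift p q n m ∈ S := by
    intro m
    by_cases h0 : m < 0
    · obtain ⟨j, rfl⟩ : ∃ j : ℕ, m = -((j + 1 : ℕ) : ℤ) := ⟨(-m).toNat - 1, by omega⟩
      rw [lift_last_pow, smul_single_mul, pow_succ', ← mul_assoc, hxy, single_algebraMap_mul, ← lift_last_pow]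
      exact S.smul_mem _ (hl _)
    by_cases h1 : (n : ℤ) ≤ m
    · obtain ⟨j, rfl⟩ : ∃ j : ℕ, m = (n : ℤ) + j := ⟨(m - n).toNat, by omega⟩
      rw [lift_zero_pow, smul_single_mul, ← pow_succ', ← lift_zero_pow]
      exact hl _
    obtain ⟨i, hi, rfl⟩ : ∃ i : ℕ, i < n ∧ m = ((n - (i + 1) : ℕ) : ℤ) := ⟨n - m.toNat - 1, by omega, by omega⟩
    have e : lift p q n ((n - (i + 1) : ℕ) : ℤ) = Pi.single (Fin.succ ⟨i, hi⟩) 1 :=
      lift_nat n (Fin.succ ⟨i, hi⟩)
    rw [e, smul_single_mul, mul_one]
    have h2 : (Pi.single (Fin.castSucc ⟨i, hi⟩) (algebraMap R (PolyNodeRing R (p * q)) p) :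
        Fin (n + 1) → PolyNodeRing R (p * q)) - Pi.single (Fin.succ ⟨i, hi⟩) (PolyNodeRing.x R (p * q)) ∈ S :=
      hM _ (Submodule.subset_span (Or.inl ⟨⟨i, hi⟩, rfl⟩))
    refine (Submodule.sub_mem_iff_right S ?_).1 h2
    rw [single_algebraMap, ← lift_nat]
    exact S.smul_mem _ (hl _)
  have hY : ∀ m, PolyNodeRing.y R (p * q) • lift p q n m ∈ S := by
    intro m
    by_cases h0 : (n : ℤ) < m
    · obtain ⟨j, rfl⟩ : ∃ j : ℕ, m = (n : ℤ) + ((j + 1 : ℕ) : ℤ) := ⟨(m - n).toNat - 1, by omega⟩
      rw [lift_zero_pow, smul_single_mul, pow_succ', ← mul_assoc, mul_comm (PolyNodeRing.y R _), hxy, single_algebraMap_mul, ← lift_zero_pow]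
      exact S.smul_mem _ (hl _)
    by_cases h1 : m ≤ 0
    · obtain ⟨j, rfl⟩ : ∃ j : ℕ, m = -(j : ℤ) := ⟨(-m).toNat, by omega⟩
      rw [lift_last_pow, smul_single_mul, ← pow_succ', ← lift_last_pow]
      exact hl _
    obtain ⟨i, hi, rfl⟩ : ∃ i : ℕ, i < n ∧ m = ((n - i : ℕ) : ℤ) := ⟨n - m.toNat, by omega, by omega⟩
    have e : lift p q n ((n - i : ℕ) : ℤ) = Pi.single (Fin.castSucc ⟨i, hi⟩) 1 :=
      lift_nat n (Fin.castSucc ⟨i, hi⟩)
    rw [e, smul_single_mul, mul_one]
    have h2 : (Pi.single (Fin.castSucc ⟨i, hi⟩) (PolyNodeRing.y R (p * q)) :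
        Fin (n + 1) → PolyNodeRing R (p * q)) - Pi.single (Fin.succ ⟨i, hi⟩) (algebraMap R (PolyNodeRing R (p * q)) q) ∈ S :=
      hM _ (Submodule.subset_span (Or.inr ⟨⟨i, hi⟩, rfl⟩))
    refine (Submodule.sub_mem_iff_left S ?_).1 h2
    rw [single_algebraMap, ← lift_nat]
    exact S.smul_mem _ (hl _)
  have hall : ∀ (a : PolyNodeRing R (p * q)) (v), v ∈ S → a • v ∈ S := by
    intro a
    obtain ⟨P, rfl⟩ := Ideal.Quotient.mk_surjective a
    induction P using MvPolynomial.induction_on with
    | C r => exact fun v hv => by rw [show (Ideal.Quotient.mk _ (MvPolynomial.C r) : PolyNodeRing R (p * q)) = algebraMap R _ r from rfl, algebraMap_smul]; exact S.smul_mem r hv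
    | add P Q hP hQ => exact fun v hv => by rw [map_add, add_smul]; exact add_mem (hP v hv) (hQ v hv)
    | mul_X P i hP =>
      intro v hv
      rw [map_mul (Ideal.Quotient.mk _) P]
      refine (mul_smul (α := PolyNodeRing R (p * q)) _ _ v).symm ▸ hP _ ?_
      fin_cases i
      · exact hclosed _ hX v hv
      · exact hclosed _ hY v hv
  have hF : F ∈ S := by
    rw [show F = ∑ i, F i • (Pi.single i 1 : Fin (n + 1) → PolyNodeRing R (p * q)) from
      by funext j; simp [Finset.sum_apply, Pi.single_apply]]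
    exact Submodule.sum_mem _ fun i _ => hall _ _ (lift_nat (p := p) (q := q) n i ▸ hl _)
  obtain ⟨v₁, hv₁, v₂, ⟨c, rfl⟩, h⟩ := Submodule.mem_sup.1 hF
  exact ⟨c, by rw [← h, add_sub_cancel_right]; exact hv₁⟩

end GrothLib.SpinNode7
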