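import Groth.Agent.Lib.SpinNode7.Poly

/-!
# Sections of the twisting sheaves on the blown-up node
-/

set_option autoImplicit false
universe u

open scoped LaurentPolynomial

namespace GrothLib.SpinNode7

open SpinCurv

variable {R : Type u} [CommRing R] {p q : R} (n : ℤ)

/-- The basic sections. -/
noncomputable def vsec (p q : R) (n m : ℤ) : PolyNodeRing R q × PolyNodeRing R p :=
  (p ^ (m - n).toNat • e q m, q ^ (-m).toNat • e p (n - m))

/-- The coefficient version of `vsec`. -/
noncomputable def wsec (p q : R) (n : ℤ) : (ℤ →₀ R) →ₗ[R] (ℤ →₀ R) × (ℤ →₀ R) :=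
  Finsupp.linearCombination R fun m => (Finsupp.single m (p ^ (m - n).toNat), Finsupp.single (n - m) (q ^ (-m).toNat))

theorem wsec_apply (c : ℤ →₀ R) (m : ℤ) :
    (wsec p q n c).1 m = p ^ (m - n).toNat * c m ∧ (wsec p q n c).2 (n - m) = q ^ (-m).toNat * c m := by
  induction c using Finsupp.induction_linear with
  | zero => simp
  | add a b ha hb => simp [map_add, ha.1, ha.2, hb.1, hb.2, mul_add]
  | single k r =>
    simp only [wsec, Finsupp.linearCombination_single, Prod.smul_mk, Finsupp.smul_single, smul_eq_mul,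
      Finsupp.single_apply]
    constructor
    · split_ifs with h
      · subst h; ring
      · rw [mul_zero]
    · by_cases h : k = m
      · subst h; simp [mul_comm]
      · rw [if_neg (by omega), if_neg h, mul_zero]

theorem nf_wsec (c : ℤ →₀ R) :
    (nf q (wsec p q n c).1, nf p (wsec p q n c).2) = Finsupp.linearCombination R (vsec p q n) c := by
  induction c using Finsupp.induction_linear with
  | zero => simp
  | add a b ha hb => simp only [map_add, Prod.fst_add, Prod.snd_add, ← ha, ← hb, Prod.mk_add_mk]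
  | single k r => simp only [wsec, vsec, Finsupp.linearCombination_single, Prod.smul_mk, map_smul, nf_single]

variable (gU : PolyNodeRing R q →ₐ[R] R[T;T⁻¹]) (hgUs : gU (PolyNodeRing.x R q) = LaurentPolynomial.T 1)
  (hgUy : gU (PolyNodeRing.y R q) = LaurentPolynomial.C q * LaurentPolynomial.T (-1))
  (gV : PolyNodeRing R p →ₐ[R] R[T;T⁻¹]) (hgVt : gV (PolyNodeRing.x R p) = LaurentPolynomial.T (-1))
  (hgVx : gV (PolyNodeRing.y R p) = LaurentPolynomial.C p * LaurentPolynomial.T 1)

include hgUs hgUy hgVt hgVx in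
theorem mem_iff (a b : ℤ →₀ R) :
    gU (nf q a) = LaurentPolynomial.T n * gV (nf p b) ↔
      ∀ m, q ^ (-m).toNat * a m = p ^ (m - n).toNat * b (n - m) := by
  have hV : gV (PolyNodeRing.y R p) = LaurentPolynomial.C p * LaurentPolynomial.T (-(-1)) := by rw [neg_neg]; exact hgVx
  have h : ∀ m, (LaurentPolynomial.T n * gV (nf p b)).coeff m = p ^ (m - n).toNat * b (n - m) := fun m => by
    have := coeff_g_nf p gV (-1) (Or.inr rfl) hgVt hV b (m - n)
    rw [show -((-1 : ℤ) * (m - n)) = m - n by ring, show (-1 : ℤ) * (m - n) = n - m by ring] at this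
    rw [← this, LaurentPolynomial.T, AddMonoidAlgebra.coeff_single_mul_apply, one_mul]
    congr 1
    ring
  constructor
  · intro hab m
    rw [← h, ← hab, coeff_g_nf q gU 1 (Or.inl rfl) hgUs hgUy, one_mul]
  · intro hab
    refine LaurentPolynomial.ext fun m => ?_
    rw [h, coeff_g_nf q gU 1 (Or.inl rfl) hgUs hgUy, one_mul, hab]

include hgUs hgUy hgVt hgVx in
theorem mem_iff_exists (hn : -1 ≤ n) (g : PolyNodeRing R q) (f : PolyNodeRing R p) :
    gU g = LaurentPolynomial.T n * gV f ↔ ∃ c, Finsupp.linearCombination R (vsec p q n) c = (g, f) := by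
  classical
  obtain ⟨a, rfl⟩ := (nf_bijective q).2 g
  obtain ⟨b, rfl⟩ := (nf_bijective p).2 f
  rw [mem_iff n gU hgUs hgUy gV hgVt hgVx]
  constructor
  · intro hab
    refine ⟨a.filter (fun m => m ≤ n) + (Finsupp.equivMapDomain (Equiv.subLeft n) b).filter (fun m => ¬ m ≤ n), ?_⟩
    rw [← nf_wsec]
    refine Prod.ext (congrArg (nf q) (Finsupp.ext fun m => ?_)) (congrArg (nf p) (Finsupp.ext fun k => ?_))
    · rw [(wsec_apply n _ m).1, Finsupp.add_apply, Finsupp.filter_apply, Finsupp.filter_apply, Finsupp.equivMapDomain_apply]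
      by_cases h : m ≤ n
      · simp [h, show (m - n).toNat = 0 by omega]
      · have := hab m
        rw [show (-m).toNat = 0 by omega, pow_zero, one_mul] at this
        simp [h, this, Equiv.subLeft, sub_eq_add_neg, add_comm]
    · obtain ⟨m, rfl⟩ : ∃ m, k = n - m := ⟨n - k, by ring⟩
      rw [(wsec_apply n _ m).2, Finsupp.add_apply, Finsupp.filter_apply, Finsupp.filter_apply, Finsupp.equivMapDomain_apply]
      by_cases h : m ≤ n
      · have := hab m
        rw [show (m - n).toNat = 0 by omega, pow_zero, one_mul] at this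
        simp [h, this]
      · simp [h, show (-m).toNat = 0 by omega, Equiv.subLeft, sub_eq_add_neg, add_comm]
  · rintro ⟨c, hc⟩ m
    rw [← nf_wsec, Prod.mk.injEq] at hc
    rw [← (nf_bijective q).1 hc.1, ← (nf_bijective p).1 hc.2, (wsec_apply n c m).1, (wsec_apply n c m).2]
    ring

theorem vsec_injective (hn : -1 ≤ n) : Function.Injective (Finsupp.linearCombination R (vsec p q n)) := by
  refine (injective_iff_map_eq_zero _).2 fun c hc => Finsupp.ext fun m => ?_
  rw [← nf_wsec, Prod.mk_eq_zero] at hc
  have h1 : (wsec p q n c).1 = 0 := (nf_bijective q).1 (hc.1.trans (map_zero _).symm)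
  have h2 : (wsec p q n c).2 = 0 := (nf_bijective p).1 (hc.2.trans (map_zero _).symm)
  by_cases h : m ≤ n
  · simpa [h1, show (m - n).toNat = 0 by omega] using (wsec_apply (p := p) (q := q) n c m).1.symm
  · simpa [h2, show (-m).toNat = 0 by omega] using (wsec_apply (p := p) (q := q) n c m).2.symm

end GrothLib.SpinNode7
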